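import Groth.Agent.Lib.ThickDesc6.Ring
import Groth.Agent.Lib.DualCx22.FibreBounded

/-! # Tor amplitude at a closed point from the closed fibre -/

set_option autoImplicit false
set_option maxHeartbeats 1000000

set_option linter.style.haveILetI false
universe u

open CategoryTheory CategoryTheory.Limits MonoidalCategory HomologicalComplex TensorProduct

attribute [local instance] HasDerivedCategory.standard

namespace GrothLib.JacAmp6

/-- Exactness on a smaller fibre from amplitude on a bigger one. -/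
theorem exactAt_bc_of_amp {A A₁ A₂ R S₁ S₂ : Type u} [CommRing A] [CommRing A₁] [CommRing A₂] [CommRing R]
    [CommRing S₁] [CommRing S₂] (β : A →+* R) (hβ : β.Flat)
    (ψ₁ : A →+* A₁) (φ₁ : R →+* S₁) (α₁ : A₁ →+* S₁) (h₁ : φ₁.comp β = α₁.comp ψ₁) (hψ₁ : Function.Surjective ψ₁)
    (hφ₁ : Function.Surjective φ₁) (hk₁ : RingHom.ker φ₁ ≤ (RingHom.ker ψ₁).map β)
    (ψ₂ : A →+* A₂) (φ₂ : R →+* S₂) (α₂ : A₂ →+* S₂) (h₂ : φ₂.comp β = α₂.comp ψ₂) (hψ₂ : Function.Surjective ψ₂)
    (hφ₂ : Function.Surjective φ₂) (hk₂ : RingHom.ker φ₂ ≤ (RingHom.ker ψ₂).map β)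
    (hle : RingHom.ker ψ₁ ≤ RingHom.ker ψ₂) {P : DRing.Cx R} (hP : KF.IsKFlat P) {a b : ℤ}
    (hamp : DRing.HasTorAmplitudeIn A₁ a b (DRing.toD ((DRing.restrictCx α₁).obj ((DR.bc φ₁).obj P))))
    (i : ℤ) (hi : i < a) : ((DR.bc φ₂).obj P).ExactAt i := by
  let Pβ := (DRing.restrictCx β).obj P
  have hPβ : KF.IsKFlat Pβ := ThickDesc6.isKFlat_restrictCx_of_flat β hβ hP
  have i₁ := DR.isIso_canCx h₁ (ThickDesc6.isPushoutHom_of_surjective β ψ₁ φ₁ α₁ h₁ hψ₁ hφ₁ hk₁) P
  have i₂ := DR.isIso_canCx h₂ (ThickDesc6.isPushoutHom_of_surjective β ψ₂ φ₂ α₂ h₂ hψ₂ hφ₂ hk₂) P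
  have hT := (KF.hasTorAmplitudeIn_iff_kflat (KF.isKFlat_bc ψ₁ hPβ) a b).1
    (DR.hasTorAmplitudeIn_of_iso (DerivedCategory.Q.mapIso (asIso (DR.canCx h₁ P)).symm) hamp)
  refine (KF.exactAt_restrict_iff α₂ _ i).1 ?_
  refine (KF.exactAt_iff_of_iso (asIso (DR.canCx h₂ P)) i).1 ?_
  refine (DR.exactAt_bc_iff ψ₂ Pβ i).2 ?_
  letI := ψ₂.toAlgebra
  let N : ModuleCat.{u} A := ModuleCat.of A A₂
  have hN : RingHom.ker ψ₁ • (⊤ : Submodule A N) = ⊥ := by
    refine le_bot_iff.1 (Submodule.smul_le.2 fun r hr (x : A₂) _ => (Submodule.mem_bot A).2 ?_)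
    show ψ₂ r * x = 0
    rw [RingHom.mem_ker.1 (hle hr), zero_mul]
  obtain ⟨M, ⟨eM⟩⟩ := DR.exists_restrict_iso ψ₁ hψ₁ N hN
  refine (DR.tExact_iff Pβ A₂ i).2 ?_
  exact ((KF.exactAt_tensor_restrict_iff ψ₁ Pβ M i).2 (hT M i (Or.inl hi))).of_iso
    (HomologicalComplex.Hom.isoOfComponents (fun j => whiskerLeftIso (Pβ.X j) eM)
      fun j k _ => whisker_exchange (Pβ.d j k) eM.hom |>.symm.symm)

/-- Exactness of a complex of free modules at a closed point spreads to the local ring. -/
theorem tExact_localization {P : Type u} [CommRing P] {E : DRing.Cx P} (hEf : DRing.TermwiseFiniteFree E)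
    (Q : Ideal P) [hQ : Q.IsMaximal] (i : ℤ) (h : ((DR.bc (Ideal.Quotient.mk Q)).obj E).ExactAt i)
    (N : Type u) [AddCommGroup N] [Module (Localization.AtPrime Q) N] :
    DR.TExact ((DR.bc (algebraMap P (Localization.AtPrime Q))).obj E) N i := by
  let L := Localization.AtPrime Q
  let l : P →+* L := algebraMap P L
  let E' := (DR.bc l).obj E
  have hE' := DR.termwiseFiniteProjective_bc l
    (fun j => ⟨(hEf j).1, DR.projective_of_finiteFree hEf j⟩ : DRing.TermwiseFiniteProjective E)
  have hres : ∀ m : Ideal L, m.IsMaximal → ((DR.bc (Ideal.Quotient.mk m)).obj E').ExactAt i := by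
    intro m hm
    obtain rfl := IsLocalRing.eq_maximalIdeal hm
    let ε := IsLocalization.AtPrime.equivQuotMaximalIdeal Q L
    have he : (Ideal.Quotient.mk (IsLocalRing.maximalIdeal L)).comp l =
        (ε : (P ⧸ Q) →+* L ⧸ IsLocalRing.maximalIdeal L).comp (Ideal.Quotient.mk Q) :=
      RingHom.ext fun x => by simp [l, ε]
    haveI := DR.preservesFiniteLimits_extendScalars (ε : (P ⧸ Q) →+* L ⧸ IsLocalRing.maximalIdeal L)
      (RingHom.Flat.of_bijective ε.bijective)
    have h1 := (DR.exactAt_map_exact (ModuleCat.extendScalars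
      (ε : (P ⧸ Q) →+* L ⧸ IsLocalRing.maximalIdeal L)) h).of_iso (DR.bcCompIso _ _ E).symm
    rw [← he] at h1
    exact h1.of_iso (DR.bcCompIso l _ E)
  haveI := (hE' i).1
  haveI := (hE' i).2
  haveI := (hE' (i + 1)).2
  exact DR.tExact_of_fibres E' i hres N

/-- Localisation is cocartesian. -/
theorem isPushoutHom_localization {P B L C : Type u} [CommRing P] [CommRing B] [CommRing L] [CommRing C]
    (π : P →+* B) (l : P →+* L) (α : B →+* C) (πQ : L →+* C) (h : α.comp π = πQ.comp l) (S : Submonoid P)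
    (hl : @IsLocalization P _ S L _ l.toAlgebra) (hα : @IsLocalization B _ (S.map π) C _ α.toAlgebra) :
    DR.IsPushoutHom π l α πQ h := by
  unfold DR.IsPushoutHom
  letI := π.toAlgebra
  letI := l.toAlgebra
  letI := α.toAlgebra
  letI := πQ.toAlgebra
  letI := (α.comp π).toAlgebra
  haveI : IsScalarTower P B C := IsScalarTower.of_algebraMap_eq' rfl
  haveI : IsScalarTower P L C := IsScalarTower.of_algebraMap_eq' h
  haveI := hl
  haveI : IsLocalization (Algebra.algebraMapSubmonoid B S) C := hα
  haveI : Algebra.IsPushout P B L C := Algebra.isPushout_of_isLocalization S L B C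
  exact Algebra.IsPushout.symm inferInstance

/-- **Tor amplitude at a closed point from its closed fibre.** -/
theorem exists_amp_localization (R B : Type u) [CommRing R] [CommRing B] [Algebra R B] [Module.Flat R B]
    [Algebra.FinitePresentation R B] :
    ∃ n : ℕ, ∀ (K : DRing.Cx B) (c : ℤ), DRing.VanishesAbove K c → DRing.TermwiseFiniteFree K →
      ∃ b : ℤ, ∀ (q : Ideal B) [q.IsMaximal] (a : ℤ),
        (∀ (p : Ideal R) [p.IsPrime], p = q.comap (algebraMap R B) → ∀ i, i < a →
          DR.TExact ((DRing.restrictCx (algebraMap R B)).obj K) p.ResidueField i) →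
        DRing.HasTorAmplitudeIn R (a - n) b
          (DRing.toD ((DRing.restrictCx (algebraMap R (Localization.AtPrime q))).obj
            ((DR.bc (algebraMap B (Localization.AtPrime q))).obj K))) := by
  obtain ⟨n, ψ, hψ, hker⟩ := Algebra.FinitePresentation.out (R := R) (A := B)
  refine ⟨n, fun K c hc hKf => ?_⟩
  let P := MvPolynomial (Fin n) R
  let π : P →+* B := ψ.toRingHom
  have hπ : DR.RingPseudoCoherent π := by
    let X := (ModuleCat.restrictScalars.{u} π).obj (ModuleCat.of B B)
    let g : P →ₗ[P] X :=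
      { toFun := fun x => π x, map_add' := map_add π, map_smul' := fun a x => map_mul π a x }
    haveI : Module.FinitePresentation P X := Module.finitePresentation_of_surjective g hψ hker
    refine DualCx22.isPseudoCoherentModule'_of_flat (R := R) X ?_
    exact Module.Flat.of_linearEquiv (M := B)
      ({ toFun := fun x => x, invFun := fun x => x, map_add' := fun _ _ => rfl,
         map_smul' := fun a x => by
           refine (Algebra.smul_def a x).trans ?_
           exact congrArg (· * x) (ψ.commutes a).symm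
         left_inv := fun _ => rfl, right_inv := fun _ => rfl } :
        B ≃ₗ[R] (ModuleCat.restrictScalars (algebraMap R P)).obj X).symm
  have hcomp : algebraMap R B = π.comp (algebraMap R P) := RingHom.ext fun r => (ψ.commutes r).symm
  have hpc : DRing.IsPseudoCoherent' B (DRing.toD K) := ⟨K, c, hc, hKf, ⟨Iso.refl _⟩⟩
  obtain ⟨E, c', hc', hEf, ⟨e⟩⟩ := (DR.isPseudoCoherent'_restrictD_iff hπ (DRing.toD K)).1 hpc
  refine ⟨c', fun q hq a hfib => ?_⟩
  have hEflat : DRing.TermwiseFlat E :=
    DR.termwiseFlat_of_projective fun j => DR.projective_of_finiteFree hEf j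
  have hKflat : DRing.TermwiseFlat K :=
    DR.termwiseFlat_of_projective fun j => DR.projective_of_finiteFree hKf j
  let Q : Ideal P := q.comap π
  haveI : Q.IsMaximal := Ideal.comap_isMaximal_of_surjective π hψ
  -- the fibre over the base
  have hfibE : ∀ i, i < a → DR.TExact ((DRing.restrictCx (algebraMap R P)).obj E)
      (Q.comap (MvPolynomial.C (σ := Fin n))).ResidueField i := fun i hi => by
    have h := hfib (Q.comap (MvPolynomial.C (σ := Fin n))) (by
      show (q.comap π).comap _ = _
      rw [Ideal.comap_comap, hcomp]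
      rfl) i hi
    let N := ModuleCat.of R (Q.comap (MvPolynomial.C (σ := Fin n))).ResidueField
    haveI := KF.hasLTensor N
    obtain ⟨v₁⟩ := KF.lTensor_value N (KF.isKFlat_of_vanishesAbove
      (fun j hj => (ModuleCat.restrictScalars (algebraMap R P)).map_isZero (hc' j hj))
      (DR.termwiseFlat_restrict hEflat))
    obtain ⟨v₂⟩ := KF.lTensor_value N (KF.isKFlat_of_vanishesAbove
      (fun j hj => (ModuleCat.restrictScalars (algebraMap R B)).map_isZero (hc j hj))
      (DR.termwiseFlat_restrict hKflat))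
    let eR : DRing.toD ((DRing.restrictCx (algebraMap R P)).obj E) ≅
        DRing.toD ((DRing.restrictCx (algebraMap R B)).obj K) :=
      (DR.restrictToDIso (algebraMap R P) E).symm ≪≫ (DRing.restrictD (algebraMap R P)).mapIso e ≪≫
        (DR.restrictDComp (algebraMap R P) π (algebraMap R B) hcomp).app _ ≪≫ DR.restrictToDIso _ _
    exact (DR.tExact_iff _ _ i).2 ((DR.exactAt_iff _ i).2 (DR.subsingleton_HD_of_iso
      (v₂.symm ≪≫ (DRing.LTensor R N).mapIso eR.symm ≪≫ v₁) i ((DR.exactAt_iff _ i).1 ((DR.tExact_iff _ _ i).1 h))))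
  have hclosed : ∀ i, i < a - n → ((DR.bc (Ideal.Quotient.mk Q)).obj E).ExactAt i := fun i hi =>
    DualCx22.exactAt_bc_residue_of_fibre Q hc' hEf a hfibE i hi
  -- the local ring of affine space
  let L := Localization.AtPrime Q
  let l : P →+* L := algebraMap P L
  let E' := (DR.bc l).obj E
  have hE' := DR.termwiseFiniteProjective_bc l
    (fun j => ⟨(hEf j).1, DR.projective_of_finiteFree hEf j⟩ : DRing.TermwiseFiniteProjective E)
  have hE'v : DRing.VanishesAbove E' c' := fun j hj => (ModuleCat.extendScalars l).map_isZero (hc' j hj)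
  have hamp : DRing.HasTorAmplitudeIn L (a - n) c' (DRing.toD E') :=
    (DR.hasTorAmplitudeIn_iff hE'v (DR.termwiseFlat_of_projective fun j => (hE' j).2) _ _).2 fun N _ _ i hi => by
      rcases hi with hi | hi
      · exact tExact_localization hEf Q i (hclosed i hi) N
      · exact DR.tExact_of_isZero (hE'v i hi) N
  have hampR : DRing.HasTorAmplitudeIn R (a - n) c' (DRing.toD ((DRing.restrictCx (algebraMap R L)).obj E')) := by
    haveI : Module.Flat P L := IsLocalization.flat L Q.primeCompl
    haveI : Module.Flat R L := Module.Flat.trans R P L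
    have h := DR.hasTorAmplitudeIn_restrictD (algebraMap R L) 0
      (DR.hasTorAmplitudeIn_of_equiv DR.restrictSelfEquiv
        (by simpa using DR.hasTorAmplitudeIn_flat (A := R) L)) hamp
    simpa using DR.hasTorAmplitudeIn_of_iso (DR.restrictToDIso (algebraMap R L) E') h
  -- comparison with the closed subscheme
  let C := Localization.AtPrime q
  let α : B →+* C := algebraMap B C
  let πQ : L →+* C := Localization.localRingHom Q q π rfl
  have hsq : α.comp π = πQ.comp l := RingHom.ext fun x => (Localization.localRingHom_to_map Q q π rfl x).symm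
  have hM : Q.primeCompl.map π = q.primeCompl := by
    refine le_antisymm ?_ fun y hy => ?_
    · rintro _ ⟨x, hx, rfl⟩
      exact hx
    · obtain ⟨x, rfl⟩ := hψ y
      exact ⟨x, hy, rfl⟩
  have hlL : @IsLocalization P _ Q.primeCompl L _ l.toAlgebra := by
    rw [show l.toAlgebra = (inferInstance : Algebra P L) from Algebra.algebra_ext _ _ fun _ => rfl]
    infer_instance
  have hαC : @IsLocalization B _ (Q.primeCompl.map π) C _ α.toAlgebra := by
    rw [hM, show α.toAlgebra = (inferInstance : Algebra B C) from Algebra.algebra_ext _ _ fun _ => rfl]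
    infer_instance
  have hpo : DR.IsPushoutHom π l α πQ hsq := isPushoutHom_localization π l α πQ hsq Q.primeCompl hlL hαC
  haveI := DR.isIso_canCx hsq hpo K
  haveI := DR.preservesFiniteLimits_extendScalars l
    (RingHom.flat_algebraMap_iff.2 (IsLocalization.flat L Q.primeCompl) : (algebraMap P L).Flat)
  haveI : PreservesFiniteColimits (ModuleCat.extendScalars.{u, u, u} l) := inferInstance
  let F := ModuleCat.extendScalars.{u, u, u} l
  let w : DRing.toD E' ≅ DRing.toD ((DRing.restrictCx πQ).obj ((DR.bc α).obj K)) :=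
    (F.mapDerivedCategoryFactors.app E).symm ≪≫
      F.mapDerivedCategory.mapIso (e ≪≫ DR.restrictToDIso π K) ≪≫
      F.mapDerivedCategoryFactors.app _ ≪≫ DerivedCategory.Q.mapIso (asIso (DR.canCx hsq K))
  have hcompC : algebraMap R C = πQ.comp (algebraMap R L) := RingHom.ext fun r => by
    rw [RingHom.comp_apply, IsScalarTower.algebraMap_apply R P L, IsScalarTower.algebraMap_apply R B C, hcomp]
    exact RingHom.congr_fun hsq _
  exact DR.hasTorAmplitudeIn_of_iso ((DR.restrictToDIso (algebraMap R L) E').symm ≪≫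
    (DRing.restrictD (algebraMap R L)).mapIso (w ≪≫ (DR.restrictToDIso πQ _).symm) ≪≫
    (DR.restrictDComp (algebraMap R L) πQ (algebraMap R C) hcompC).app _ ≪≫ DR.restrictToDIso _ _) hampR

end GrothLib.JacAmp6
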