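import Groth.Agent.Lib.JacAmp6.Algebra
import Groth.Agent.Lib.ThickDesc6.Square
import Groth.Agent.Lib.RelAmp22.Fibres
import Groth.Agent.Lib.OX.FibreRank

/-! # Closed fibres inside the closed fibre over an ideal -/

set_option autoImplicit false
set_option maxHeartbeats 1600000
set_option backward.isDefEq.respectTransparency false
set_option linter.style.haveILetI false
universe u

open CategoryTheory CategoryTheory.Limits AlgebraicGeometry HomologicalComplex
open scoped TensorProduct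

attribute [local instance] HasDerivedCategory.standard

namespace GrothLib.JacAmp6

open GrothLib.OX GrothLib.KSix19 GrothLib.RelAmp22

/-- A cartesian square over a closed immersion, on stalks at a point over `x'`. -/
theorem exists_stalk_data {X X' Y Y' : Scheme.{u}} {f : X ⟶ Y} {f' : X' ⟶ Y'} {i : X ⟶ X'} {j : Y ⟶ Y'}
    (sq : IsPullback i f f' j) [IsClosedImmersion j] (x : X) (x' : X') (hx : i x = x') :
    ∃ (φ : X'.presheaf.stalk x' →+* X.presheaf.stalk x) (ψ : Y'.presheaf.stalk (f' x') →+* Y.presheaf.stalk (f x)),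
      φ.comp (f'.stalkMap x').hom = (f.stalkMap x).hom.comp ψ ∧ Function.Surjective ψ ∧ Function.Surjective φ ∧
      RingHom.ker φ ≤ (RingHom.ker ψ).map (f'.stalkMap x').hom ∧
      ∀ P : CochainComplex X'.Modules ℤ, Nonempty ((stalkCx x).obj ((pullCxF i).obj P) ≅
        (DR.bc φ).obj ((stalkCx x').obj P)) := by
  subst hx
  obtain ⟨ψ, hc, hψ, -, hk⟩ := ThickDesc6.exists_stalk_square sq x
  have : IsClosedImmersion i := MorphismProperty.of_isPullback sq.flip inferInstance
  exact ⟨(i.stalkMap x).hom, ψ, hc, hψ, i.stalkMap_surjective x, hk.le,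
    fun P => ⟨(NatIso.mapHomologicalComplex (pullStalkIso i x) (ComplexShape.up ℤ)).app P⟩⟩

variable {X S S₀ : Scheme.{u}} (f : X ⟶ S) (j : S₀ ⟶ S) [IsClosedImmersion j]

/-- The closed fibres over the range of `j` are bounded below by the amplitude over `j`. -/
theorem isGE_lpull_fibre [Flat f] [DCoh.HasLpull (pullback.fst f j)] {E : DCoh.D X}
    {F₀ : CochainComplex (pullback f j).Modules ℤ}
    (e : DCoh.toD _ F₀ ≅ (DCoh.Lpull (pullback.fst f j)).obj E) {a b : ℤ}
    (h : DerSch.HasTorAmplitude (pullback.snd f j) a b F₀) {s : S} (hs : IsClosed ({s} : Set S))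
    (hsj : s ∈ Set.range j) [DCoh.HasLpull (f.fiberι s)] : ((DCoh.Lpull (f.fiberι s)).obj E).IsGE a := by
  have hcl : IsClosedImmersion (S.fromSpecResidueField s) := isClosed_singleton_iff_isClosedImmersion.1 hs
  obtain ⟨P, hP, ⟨eP⟩⟩ := exists_kflat_rep E
  obtain ⟨v⟩ := lpull_value (pullback.fst f j) P hP
  obtain ⟨w⟩ := lpull_value (f.fiberι s) P hP
  let L := (pullCxF (f.fiberι s)).obj P
  refine isGE_of_stalkGE fun y => stalkGE_iso (w.symm ≪≫ (DCoh.Lpull (f.fiberι s)).mapIso eP) fun i hi => ?_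
  let x := f.fiberι s y
  have hfx : f x = s := by
    have h1 := Set.mem_singleton_iff.1 (show f x ∈ ({s} : Set S) from by
      rw [← S.range_fromSpecResidueField s]
      exact ⟨(pullback.snd f (S.fromSpecResidueField s)) y, by
        rw [← Scheme.Hom.comp_apply, ← pullback.condition, Scheme.Hom.comp_apply]; rfl⟩)
    exact h1
  obtain ⟨z, hz⟩ : x ∈ Set.range (pullback.fst f j) := by
    rw [Scheme.Pullback.range_fst]
    show f x ∈ Set.range j
    rw [hfx]; exact hsj
  obtain ⟨φ₁, ψ₁, hc₁, hψ₁, hφ₁, hk₁, hP₁⟩ := exists_stalk_data (IsPullback.of_hasPullback f j) z x hz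
  obtain ⟨φ₂, ψ₂, hc₂, hψ₂, hφ₂, hk₂, hP₂⟩ :=
    exists_stalk_data (f' := f) (IsPullback.of_hasPullback f (S.fromSpecResidueField s)) y x rfl
  have hle : RingHom.ker ψ₁ ≤ RingHom.ker ψ₂ := by
    let t := (pullback.snd f (S.fromSpecResidueField s)) y
    letI := (isField_residue s t).toField
    have hmax : (RingHom.ker ψ₂).IsMaximal := RingHom.ker_isMaximal_of_surjective ψ₂ hψ₂
    rw [IsLocalRing.eq_maximalIdeal hmax]
    exact IsLocalRing.le_maximalIdeal (RingHom.ker_ne_top ψ₁)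
  obtain ⟨s₁⟩ := hP₁ P
  obtain ⟨s₂⟩ := hP₂ P
  obtain ⟨c⟩ := nonempty_stalkCx_iso z (show DerivedCategory.Q.obj F₀ ≅ DerivedCategory.Q.obj ((pullCxF _).obj P) from
    e ≪≫ (DCoh.Lpull _).mapIso eP.symm ≪≫ v)
  obtain ⟨a₁⟩ := nonempty_stalkCxOver (pullback.snd f j) z F₀
  have hamp := DR.hasTorAmplitudeIn_of_iso
    (a₁ ≪≫ (DRing.restrictD ((pullback.snd f j).stalkMap z).hom).mapIso c ≪≫ DR.restrictToDIso _ _ ≪≫
      DerivedCategory.Q.mapIso ((DRing.restrictCx ((pullback.snd f j).stalkMap z).hom).mapIso s₁)) (h z)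
  have hex := exactAt_bc_of_amp (f.stalkMap x).hom (Flat.stalkMap f x) ψ₁ φ₁ _ hc₁ hψ₁ hφ₁ hk₁
    ψ₂ φ₂ _ hc₂ hψ₂ hφ₂ hk₂ hle (ThickDesc6.isKFlat_stalk hP x) hamp i hi
  have hz' : IsZero (((stalkCx y).obj L).homology i) :=
    (exactAt_iff_isZero_homology _ _).1 ((KF.exactAt_iff_of_iso s₂ i).2 hex)
  exact (hz'.of_iso ((L.sc i).mapHomologyIso (stalk y)).symm).of_iso ((stalk y).mapIso (hdIso L i))

/-- Exactness after base change to a fibre, on global sections, with the bound of the fibre. -/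
theorem tExact_fibre_of_isGE {U : X.Opens} {V : S.Opens} (hU : IsAffineOpen U)
    (hV : IsAffineOpen V) (hUV : U ≤ f ⁻¹ᵁ V) [PreservesFiniteLimits (tilde.functor Γ(X, U))]
    {E : DCoh.D X} {K : DRing.Cx Γ(X, U)} (hK : GrothLib.KF.IsKFlat K)
    (e : (resD hU.fromSpec).obj E ≅ (DCoh.tildeD Γ(X, U)).obj (DRing.toD K)) (p : Spec Γ(S, V))
    [DCoh.HasLpull (f.fiberι (hV.fromSpec p))] (a : ℤ)
    (hfib : ((DCoh.Lpull (f.fiberι (hV.fromSpec p))).obj E).IsGE a) :
    letI := (f.appLE V U hUV).hom.toAlgebra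
    ∀ i, i < a →
      GrothLib.DR.TExact ((DRing.restrictCx (algebraMap Γ(S, V) Γ(X, U))).obj K) p.asIdeal.ResidueField i := by
  letI := (f.appLE V U hUV).hom.toAlgebra
  let A : Type u := Γ(X, U)
  let C : Type u := Γ(X, U) ⊗[Γ(S, V)] p.asIdeal.ResidueField
  let ψ : A →+* C := Algebra.TensorProduct.includeLeftRingHom
  let ι₀ := f.fiberι (hV.fromSpec p)
  obtain ⟨h, hh, hhι⟩ := exists_fibre_chart f hU hV hUV p
  haveI := hh
  haveI : PreservesFiniteLimits (tilde.functor (CommRingCat.of A)) := preservesFiniteLimits_tildeGen _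
  haveI : PreservesFiniteLimits (tilde.functor (CommRingCat.of C)) := preservesFiniteLimits_tildeGen _
  obtain ⟨P, hP, ⟨eP⟩⟩ := exists_kflat_rep E
  obtain ⟨v⟩ := lpull_value ι₀ P hP
  let L := (DCoh.Lpull ι₀).obj E
  haveI ha : ((resD h).obj L).IsGE a := (DerivedCategory.isGE_iff _ _).2 fun i hi =>
    ((Scheme.Modules.restrictFunctor h).map_isZero (DerivedCategory.isZero_of_isGE L a i hi)).of_iso
      (nonempty_hd_resD h L i).some
  let K' := ((ModuleCat.extendScalars ψ).mapHomologicalComplex (ComplexShape.up ℤ)).obj K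
  let T := ((tilde.functor (CommRingCat.of A)).mapHomologicalComplex (ComplexShape.up ℤ)).obj K
  let eT : DerivedCategory.Q.obj T ≅ DerivedCategory.Q.obj ((pullCxF hU.fromSpec).obj P) :=
    ((tilde.functor (CommRingCat.of A)).mapDerivedCategoryFactors.app K).symm ≪≫ e.symm ≪≫
      (resD hU.fromSpec).mapIso eP.symm ≪≫ (resDFac hU.fromSpec).app P ≪≫
      DerivedCategory.Q.mapIso ((resPullCxIso hU.fromSpec).app P)
  obtain ⟨i₀⟩ := nonempty_iso_pullCx (specHom ψ) (kflat_tilde hK) (isKFlat_pullback hU.fromSpec hP) eT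
  have key : Nonempty (DerivedCategory.Q.obj ((pullCxF (h ≫ ι₀)).obj P) ≅
      (DCoh.tildeD (CommRingCat.of C)).obj (DRing.toD K')) := by
    rw [show h ≫ ι₀ = specHom ψ ≫ hU.fromSpec from hhι]
    exact ⟨(DerivedCategory.Q.mapIso (pullCxCompIso (specHom ψ) hU.fromSpec P)).symm ≪≫ i₀.symm ≪≫
      DerivedCategory.Q.mapIso ((tildePullCxIso ψ).app K) ≪≫
      ((tilde.functor (CommRingCat.of C)).mapDerivedCategoryFactors.app K').symm⟩
  obtain ⟨eK⟩ := key
  let eL : (resD h).obj L ≅ (DCoh.tildeD (CommRingCat.of C)).obj (DRing.toD K') :=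
    (resD h).mapIso ((DCoh.Lpull ι₀).mapIso eP.symm ≪≫ v) ≪≫ (resDFac h).app _ ≪≫
      DerivedCategory.Q.mapIso ((resPullCxIso h).app _ ≪≫ pullCxCompIso h ι₀ P) ≪≫ eK
  intro i hi
  have hz : IsZero ((tilde.functor (CommRingCat.of C)).obj ((DerivedCategory.homologyFunctor _ i).obj (DRing.toD K'))) :=
    (DerivedCategory.isZero_of_isGE ((resD h).obj L) a i hi).of_iso
      ((HDTildeIso (R := CommRingCat.of C) (DRing.toD K') i).symm ≪≫
        (DerivedCategory.homologyFunctor _ i).mapIso eL.symm)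
  have hz' : IsZero ((DerivedCategory.homologyFunctor (ModuleCat.{u} C) i).obj (DRing.toD K')) := by
    rw [IsZero.iff_id_eq_zero]
    haveI := faithful_tildeGen (CommRingCat.of C)
    exact (tilde.functor (CommRingCat.of C)).map_injective (hz.eq_of_src _ _)
  have hex : K'.ExactAt i :=
    (exactAt_iff_isZero_homology _ _).2 (hz'.of_iso ((DerivedCategory.homologyFunctorFactors _ i).app K').symm)
  refine (GrothLib.DR.tExact_tensor_iff K p.asIdeal.ResidueField i).1 ?_
  have h' := (GrothLib.DR.exactAt_bc_iff ψ K i).1 hex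
  have hψ : ψ.toAlgebra = (Algebra.TensorProduct.leftAlgebra : Algebra A C) :=
    Algebra.algebra_ext _ _ fun r => rfl
  rw [hψ] at h'
  exact h'

end GrothLib.JacAmp6
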