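import Groth.Agent.Lib.JacAmp6.Fibre

/-! # Tor amplitude from a closed subscheme of the base containing all closed points -/

set_option autoImplicit false
set_option maxHeartbeats 1600000
set_option backward.isDefEq.respectTransparency false
set_option linter.style.haveILetI false
universe u

open CategoryTheory CategoryTheory.Limits AlgebraicGeometry HomologicalComplex

attribute [local instance] HasDerivedCategory.standard

namespace GrothLib.JacAmp6

open GrothLib.OX GrothLib.KSix19 GrothLib.RelAmp22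

/-- A quasi-compact space has uniform relative amplitude bounds. -/
theorem exists_uniform_amp {X S : Scheme.{u}} [CompactSpace X] (f : X ⟶ S) {F : CochainComplex X.Modules ℤ}
    (h : DerSch.LocFiniteTorAmplitude f F) : ∃ a b : ℤ, DerSch.HasTorAmplitude f a b F := by
  choose V a b hx hV using h
  obtain ⟨t, ht⟩ := isCompact_univ.elim_finite_subcover (fun x => ((V x : X.Opens) : Set X))
    (fun x => (V x).isOpen) fun x _ => Set.mem_iUnion.2 ⟨x, hx x⟩
  obtain ⟨lo, hlo⟩ := (t.image a).bddBelow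
  obtain ⟨hi, hhi⟩ := (t.image b).bddAbove
  refine ⟨lo, hi, fun x => ?_⟩
  obtain ⟨z, hz, hxz⟩ := Set.mem_iUnion₂.1 (ht (Set.mem_univ x))
  exact amp_mono (hlo (Finset.mem_image_of_mem a hz)) (hhi (Finset.mem_image_of_mem b hz)) (hV z x hxz)

/-- Tor amplitude on an affine chart, at the points specialising to closed points. -/
theorem exists_amp_chart {X S : Scheme.{u}} [IsAffine S] (f : X ⟶ S) [Flat f] [LocallyOfFinitePresentation f]
    {E : DCoh.D X} (hE : ∀ m, DCoh.IsPseudoCoherentD m E) (hf : IsClosedMap f) (a₀ : ℤ)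
    (hfib : ∀ s : S, IsClosed ({s} : Set S) → ∀ [DCoh.HasLpull (f.fiberι s)],
      ((DCoh.Lpull (f.fiberι s)).obj E).IsGE a₀) (x : X) :
    ∃ (U : X.Opens) (a b : ℤ), x ∈ U ∧ ∀ x' x₀ : X, x₀ ∈ U → IsClosed ({x₀} : Set X) → x' ⤳ x₀ →
      AmpAt f a b E x' := by
  have hV : IsAffineOpen (⊤ : S.Opens) := isAffineOpen_top S
  obtain ⟨U, hU, hx, -⟩ := exists_isAffineOpen_mem_and_subset (x := x) (U := (⊤ : X.Opens)) trivial
  have hUV : U ≤ f ⁻¹ᵁ (⊤ : S.Opens) := fun _ _ => trivial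
  haveI := preservesFiniteLimits_tildeGen Γ(X, U)
  have hQ : DCoh.IsQCohD E := fun i => isQCoh_HD_of_pseudoCoherent (hE (i - 1)) (by omega)
  obtain ⟨M, ⟨eM⟩⟩ := exists_tildeD_rep hQ hU.fromSpec
  letI := (f.appLE ⊤ U hUV).hom.toAlgebra
  haveI : Module.Flat Γ(S, ⊤) Γ(X, U) := f.flat_appLE hV hU hUV
  haveI : Algebra.FinitePresentation Γ(S, ⊤) Γ(X, U) := f.finitePresentation_appLE hV hU hUV
  have hpc : DRing.IsPseudoCoherent' Γ(X, U) M := GrothLib.DR.isPseudoCoherent'_of_forall fun m =>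
    (isPseudoCoherentD_tildeD_iff (A := Γ(X, U)) M m).1
      (isPseudoCoherentD_of_iso (isPseudoCoherentD_resD (hE m) hU.fromSpec) eM.symm)
  obtain ⟨K, c, hc, hKf, ⟨eK⟩⟩ := hpc
  let e : (resD hU.fromSpec).obj E ≅ (DCoh.tildeD Γ(X, U)).obj (DRing.toD K) :=
    eM.symm ≪≫ (DCoh.tildeD Γ(X, U)).mapIso eK.symm
  have hKK : KF.IsKFlat K := KF.isKFlat_of_vanishesAbove hc
    (DR.termwiseFlat_of_projective fun i => DR.projective_of_finiteFree hKf i)
  obtain ⟨n, hn⟩ := exists_amp_localization Γ(S, ⊤) Γ(X, U)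
  obtain ⟨b, hb⟩ := hn K c hc hKf
  refine ⟨U, a₀ - n, b, hx, fun x' x₀ hx₀ hcl hsp => ?_⟩
  obtain ⟨q, rfl⟩ := mem_range_fromSpec hU hx₀
  obtain ⟨q', rfl⟩ := mem_range_fromSpec hU (hsp.mem_open U.2 hx₀)
  have hle : q' ⤳ q := (hU.fromSpec.isOpenEmbedding.isInducing.specializes_iff).1 hsp
  have hqcl : IsClosed ({q} : Set (Spec Γ(X, U))) := by
    have h := hcl.preimage hU.fromSpec.continuous
    rwa [show (hU.fromSpec ⁻¹' {hU.fromSpec q}) = {q} from
      Set.preimage_image_eq {q} hU.fromSpec.isOpenEmbedding.injective ▸ by rw [Set.image_singleton]] at h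
  haveI hqmax : q.asIdeal.IsMaximal := (PrimeSpectrum.isClosed_singleton_iff_isMaximal q).1 hqcl
  let φ : Γ(S, ⊤) →+* Γ(X, U) := (f.appLE ⊤ U hUV).hom
  have hw : specMap (R := Γ(S, ⊤)) (A := Γ(X, U)) φ ≫ hV.fromSpec = hU.fromSpec ≫ f :=
    IsAffineOpen.SpecMap_appLE_fromSpec f hV hU hUV
  have hamp := hb q.asIdeal a₀ fun p hp hpq i hi => by
    let pp : Spec Γ(S, ⊤) := (⟨p, hp⟩ : PrimeSpectrum Γ(S, ⊤))
    haveI := hasLpull (f.fiberι (hV.fromSpec pp))
    have hpp : hV.fromSpec pp = f (hU.fromSpec q) := by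
      rw [← Scheme.Hom.comp_apply, ← hw, Scheme.Hom.comp_apply]
      exact congrArg hV.fromSpec (PrimeSpectrum.ext hpq : (⟨p, hp⟩ : PrimeSpectrum Γ(S, ⊤)) = _)
    refine tExact_fibre_of_isGE f hU hV hUV hKK e pp a₀ (hfib _ ?_) i hi
    rw [hpp, ← Set.image_singleton]
    exact hf _ hcl
  -- the stalk at the generalisation
  let C := Localization.AtPrime q.asIdeal
  let A' := (Spec (CommRingCat.of Γ(X, U))).presheaf.stalk q'
  letI : Algebra Γ(X, U) A' := (StructureSheaf.toStalk (CommRingCat.of Γ(X, U)) q').hom.toAlgebra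
  haveI : IsLocalization.AtPrime A' q'.asIdeal := StructureSheaf.IsLocalization.to_stalk (CommRingCat.of Γ(X, U)) q'
  have hMN : q.asIdeal.primeCompl ≤ q'.asIdeal.primeCompl := fun y hy hy' =>
    hy ((PrimeSpectrum.le_iff_specializes _ _).2 hle hy')
  let σ : C →+* A' := IsLocalization.lift (M := q.asIdeal.primeCompl) (g := algebraMap Γ(X, U) A')
    fun y => IsLocalization.map_units A' (⟨y.1, hMN y.2⟩ : q'.asIdeal.primeCompl)
  letI : Algebra C A' := σ.toAlgebra
  haveI : IsScalarTower Γ(X, U) C A' := IsScalarTower.of_algebraMap_eq' (IsLocalization.lift_comp _).symm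
  haveI := IsLocalization.isLocalization_of_submonoid_le C A' q.asIdeal.primeCompl q'.asIdeal.primeCompl hMN
  have hσ : σ.Flat := RingHom.flat_algebraMap_iff.2
    (IsLocalization.flat A' (q'.asIdeal.primeCompl.map (algebraMap Γ(X, U) C)))
  have hcomp : σ.comp (algebraMap Γ(X, U) C) = algebraMap Γ(X, U) A' := IsLocalization.lift_comp _
  have h1 := ampOver_bc_of_flat (algebraMap Γ(S, ⊤) C) σ hσ _ hamp
  have hcR : σ.comp (algebraMap Γ(S, ⊤) C) = (algebraMap Γ(X, U) A').comp φ := by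
    rw [IsScalarTower.algebraMap_eq Γ(S, ⊤) Γ(X, U) C, ← RingHom.comp_assoc, hcomp]
    rfl
  rw [hcR] at h1
  have h1' := GrothLib.KSix19.amp_of_iso (DerivedCategory.Q.mapIso
    ((DRing.restrictCx ((algebraMap Γ(X, U) A').comp φ)).mapIso
      ((DR.bcCompIso (algebraMap Γ(X, U) C) σ K).symm ≪≫ eqToIso (by rw [hcomp])))) h1
  let ι := specToStalk (CommRingCat.of Γ(S, ⊤)) ((specMap (R := Γ(S, ⊤)) (A := Γ(X, U)) φ) q')
  have h2 : AmpOver ((((specMap (R := Γ(S, ⊤)) (A := Γ(X, U)) φ).stalkMap q').hom).comp ι) (a₀ - n) b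
      ((DR.bc (algebraMap Γ(X, U) A')).obj K) := by
    rw [stalkMap_comp_toStalk φ q']; exact h1'
  have h3 := (GrothLib.KSix19.amp_congr ι ((specMap (R := Γ(S, ⊤)) (A := Γ(X, U)) φ).stalkMap q').hom _ _ _).1 h2
  letI : Algebra Γ(S, ⊤) ((Spec (CommRingCat.of Γ(S, ⊤))).presheaf.stalk
      ((specMap (R := Γ(S, ⊤)) (A := Γ(X, U)) φ) q')) :=
    (StructureSheaf.toStalk (CommRingCat.of Γ(S, ⊤)) ((specMap (R := Γ(S, ⊤)) (A := Γ(X, U)) φ) q')).hom.toAlgebra
  haveI : IsLocalization.AtPrime ((Spec (CommRingCat.of Γ(S, ⊤))).presheaf.stalk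
      ((specMap (R := Γ(S, ⊤)) (A := Γ(X, U)) φ) q')) ((specMap (R := Γ(S, ⊤)) (A := Γ(X, U)) φ) q').asIdeal :=
    StructureSheaf.IsLocalization.to_stalk (CommRingCat.of Γ(S, ⊤)) _
  have h4 := GrothLib.KSix19.amp_of_isLocalization
    ((specMap (R := Γ(S, ⊤)) (A := Γ(X, U)) φ) q').asIdeal.primeCompl h3
  exact (ampAt_chart_iff hU hV hUV E q').1 (ampAt_of_iso _ e.symm ((ampAt_tilde_iff φ K q').2 h4))

/-- **Tor amplitude from a closed subscheme of the base containing all closed points.** -/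
theorem locFiniteTorAmplitudeD_of_closed {X S S₀ : Scheme.{u}} [IsAffine S] (f : X ⟶ S) [Flat f]
    [LocallyOfFinitePresentation f] [CompactSpace X] (hf : IsClosedMap f) (j : S₀ ⟶ S) [IsClosedImmersion j]
    (hj : ∀ s : S, IsClosed ({s} : Set S) → s ∈ Set.range j) [DCoh.HasLpull (pullback.fst f j)]
    {E : DCoh.D X} (hE : ∀ m, DCoh.IsPseudoCoherentD m E) {F₀ : CochainComplex (pullback f j).Modules ℤ}
    (e : DCoh.toD _ F₀ ≅ (DCoh.Lpull (pullback.fst f j)).obj E)
    (h : DerSch.LocFiniteTorAmplitude (pullback.snd f j) F₀) : DerSch.LocFiniteTorAmplitudeD f E := by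
  have hi : IsClosedImmersion (pullback.fst f j) :=
    MorphismProperty.of_isPullback (IsPullback.of_hasPullback f j).flip inferInstance
  haveI : CompactSpace ↥(pullback f j) := (pullback.fst f j).isClosedEmbedding.compactSpace
  obtain ⟨a₀, b₀, h₀⟩ := exists_uniform_amp _ h
  choose U a b hx hU using exists_amp_chart f hE hf a₀ fun s hs _ => isGE_lpull_fibre f j e h₀ hs (hj s hs)
  obtain ⟨t, ht⟩ := isCompact_univ.elim_finite_subcover (fun x => ((U x : X.Opens) : Set X))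
    (fun x => (U x).isOpen) fun x _ => Set.mem_iUnion.2 ⟨x, hx x⟩
  obtain ⟨lo, hlo⟩ := (t.image a).bddBelow
  obtain ⟨hi', hhi⟩ := (t.image b).bddAbove
  intro F ⟨eF⟩ x
  refine ⟨⊤, lo, hi', trivial, fun x' _ => ?_⟩
  obtain ⟨x₀, hx₀, hcl⟩ := (isClosed_closure (s := ({x'} : Set X))).exists_closed_singleton
    (Set.singleton_nonempty x').closure
  obtain ⟨z, hz, hxz⟩ := Set.mem_iUnion₂.1 (ht (Set.mem_univ x₀))
  have hamp := ampAt_mono f (hlo (Finset.mem_image_of_mem a hz)) (hhi (Finset.mem_image_of_mem b hz))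
    (hU z x' x₀ hxz hcl (specializes_iff_mem_closure.2 hx₀))
  let w : DRing.toD ((DerSch.stalkCxOver f x').obj F) ≅ DRing.toD ((relStalkCx f x').obj F) :=
    DerivedCategory.Q.mapIso ((NatIso.mapHomologicalComplex
      (Functor.isoWhiskerRight (GrothLib.KSix19.stalkFunctorIso x') (ModuleCat.restrictScalars (f.stalkMap x').hom))
      (ComplexShape.up ℤ)).app F)
  exact GrothLib.KSix19.amp_of_iso w.symm ((ampAt_Q_iff f F x').1 (ampAt_of_iso f eF.symm hamp))

end GrothLib.JacAmp6
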